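import Mathlib

/-!
Invariant subgroups of a power of a non-abelian simple group: a box of proper subgroups
or a product of diagonals.
-/

set_option autoImplicit false
set_option linter.unusedSectionVars false
set_option linter.style.haveILetI false

namespace Cfsg.Lib.Recog.ONanScott

variable {ι T : Type*} [Group T] [DecidableEq ι]

theorem eq_one_of_central [IsSimpleGroup T] (hna : ¬ ∀ a b : T, a * b = b * a) {a : T}
    (h : ∀ b : T, a * b = b * a) : a = 1 := by
  rcases IsSimpleGroup.eq_bot_or_eq_top_of_normal (Subgroup.center T) inferInstance with e | e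
  · have : a ∈ Subgroup.center T := Subgroup.mem_center_iff.2 fun b => (h b).symm
    rwa [e, Subgroup.mem_bot] at this
  · exact absurd (fun x y => (Subgroup.mem_center_iff.1 (e ▸ Subgroup.mem_top y : y ∈ Subgroup.center T) x)) hna

theorem single_mem_of_normal [IsSimpleGroup T] (hna : ¬ ∀ a b : T, a * b = b * a) (M : Subgroup (ι → T))
    (hM : ∀ (g : ι → T), ∀ x ∈ M, g * x * g⁻¹ ∈ M) {x : ι → T} (hx : x ∈ M) {i : ι} (hi : x i ≠ 1)
    (t : T) : Pi.mulSingle i t ∈ M := by
  let K := M.comap (MonoidHom.mulSingle (fun _ : ι => T) i)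
  have hK : K.Normal := ⟨fun a ha g => by
    show Pi.mulSingle i (g * a * g⁻¹) ∈ M
    rw [Pi.mulSingle_mul, Pi.mulSingle_mul, Pi.mulSingle_inv]
    exact hM _ _ ha⟩
  obtain ⟨b, hb⟩ : ∃ b : T, x i * b ≠ b * x i := by
    by_contra hc
    push Not at hc
    exact hi (eq_one_of_central hna hc)
  have hc : Pi.mulSingle i (x i * b * (x i)⁻¹ * b⁻¹) ∈ M := by
    have h1 : x * (Pi.mulSingle i b * x⁻¹ * (Pi.mulSingle i b)⁻¹) ∈ M :=
      M.mul_mem hx (hM _ _ (M.inv_mem hx))
    convert h1 using 1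
    funext j
    rcases eq_or_ne j i with rfl | hj
    · simp [mul_assoc]
    · simp [hj]
  rcases IsSimpleGroup.eq_bot_or_eq_top_of_normal K hK with e | e
  · exfalso
    have hmem : x i * b * (x i)⁻¹ * b⁻¹ ∈ K := hc
    rw [e, Subgroup.mem_bot, mul_inv_eq_one, mul_inv_eq_iff_eq_mul] at hmem
    exact hb hmem
  · exact (e ▸ Subgroup.mem_top t : t ∈ K)

/-- Automorphisms of a power of a non-abelian simple group permute the factors. -/
theorem factor [IsSimpleGroup T] [Finite T] (hna : ¬ ∀ a b : T, a * b = b * a)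
    (f : (ι → T) ≃* (ι → T)) (i : ι) :
    ∃ (j : ι) (β : T ≃* T), (∀ x, f x j = β (x i)) ∧ ∀ s, f (Pi.mulSingle i s) = Pi.mulSingle j (β s) := by
  obtain ⟨t0, ht0⟩ : ∃ t : T, t ≠ 1 := exists_ne 1
  have hne : f (Pi.mulSingle i t0) ≠ 1 := fun e => ht0 <| by
    have := congrFun (f.injective (e.trans (map_one f).symm)) i
    simpa using this
  obtain ⟨j, hj⟩ := Function.ne_iff.1 hne
  let M := ((MonoidHom.mulSingle (fun _ : ι => T) i).range).map f.toMonoidHom
  have hM : ∀ g : ι → T, ∀ x ∈ M, g * x * g⁻¹ ∈ M := by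
    rintro g _ ⟨_, ⟨s, rfl⟩, rfl⟩
    refine ⟨_, ⟨f.symm g i * s * (f.symm g i)⁻¹, rfl⟩, ?_⟩
    have : Pi.mulSingle i (f.symm g i * s * (f.symm g i)⁻¹) = f.symm g * Pi.mulSingle i s * (f.symm g)⁻¹ := by
      funext l
      rcases eq_or_ne l i with rfl | hl
      · simp
      · simp [hl]
    simp only [MulEquiv.coe_toMonoidHom, MonoidHom.mulSingle_apply]
    rw [this, map_mul, map_mul, map_inv, MulEquiv.apply_symm_apply]
  have hall : ∀ t : T, ∃ s, f (Pi.mulSingle i s) = Pi.mulSingle j t := by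
    intro t
    obtain ⟨_, ⟨s, rfl⟩, hs⟩ := single_mem_of_normal hna M hM (x := f (Pi.mulSingle i t0))
      ⟨_, ⟨t0, rfl⟩, rfl⟩ hj t
    exact ⟨s, hs⟩
  let γ : T →* T := (Pi.evalMonoidHom (fun _ : ι => T) i).comp
    (f.symm.toMonoidHom.comp (MonoidHom.mulSingle (fun _ : ι => T) j))
  have hγ : ∀ t, f (Pi.mulSingle i (γ t)) = Pi.mulSingle j t := by
    intro t
    obtain ⟨s, hs⟩ := hall t
    have : γ t = s := by
      show f.symm (Pi.mulSingle j t) i = s
      rw [← hs, MulEquiv.symm_apply_apply, Pi.mulSingle_eq_same]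
    rw [this, hs]
  have hinj : Function.Injective γ := by
    intro t t' h
    have := congrFun ((hγ t).symm.trans ((congrArg (fun s => f (Pi.mulSingle i s)) h).trans (hγ t'))) j
    simpa using this
  let β : T ≃* T := (MulEquiv.ofBijective γ (Finite.injective_iff_bijective.1 hinj)).symm
  have hs : ∀ s, f (Pi.mulSingle i s) = Pi.mulSingle j (β s) := by
    intro s
    conv_lhs => rw [show s = γ (β s) from ((MulEquiv.ofBijective γ _).apply_symm_apply s).symm]
    exact hγ (β s)
  refine ⟨j, β, fun x => ?_, hs⟩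
  have hy : f ((Pi.mulSingle i (x i))⁻¹ * x) j = 1 := by
    refine eq_one_of_central hna fun b => ?_
    obtain ⟨s, hsb⟩ := hall b
    have hc : Commute ((Pi.mulSingle i (x i))⁻¹ * x) (Pi.mulSingle i s) := by
      funext l
      rcases eq_or_ne l i with rfl | hl
      · simp
      · simp [hl]
    have := congrFun (hc.map f).eq j
    simpa [hsb] using this
  have := congrFun (map_mul f (Pi.mulSingle i (x i)) ((Pi.mulSingle i (x i))⁻¹ * x)) j
  rw [mul_inv_cancel_left, Pi.mul_apply, hy, mul_one, hs, Pi.mulSingle_eq_same] at this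
  exact this

/-- The factor reached backwards. -/
theorem factor_back [IsSimpleGroup T] [Finite T] (hna : ¬ ∀ a b : T, a * b = b * a)
    (f : (ι → T) ≃* (ι → T)) (j : ι) :
    ∃ (i : ι) (β : T ≃* T), (∀ x, f x j = β (x i)) ∧ ∀ s, f (Pi.mulSingle i s) = Pi.mulSingle j (β s) := by
  obtain ⟨i, γ, -, hγ⟩ := factor hna f.symm j
  obtain ⟨j', β, h1, h2⟩ := factor hna f i
  obtain ⟨t0, ht0⟩ : ∃ t : T, t ≠ 1 := exists_ne 1
  have hjj : j' = j := by
    by_contra hne
    have h3 : f (Pi.mulSingle i (γ t0)) = Pi.mulSingle j t0 := by rw [← hγ, MulEquiv.apply_symm_apply]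
    rw [h2] at h3
    have := congrFun h3 j
    rw [Pi.mulSingle_eq_of_ne (Ne.symm hne), Pi.mulSingle_eq_same] at this
    exact ht0 this.symm
  exact ⟨i, β, hjj ▸ h1, hjj ▸ h2⟩

section Sub

variable [Fintype ι] [IsSimpleGroup T]

/-- Coordinate `i` determines coordinate `j` on `D`. -/
def Linked (D : Subgroup (ι → T)) (i j : ι) : Prop := ∀ x ∈ D, x i = 1 → x j = 1

theorem image_full {D : Subgroup (ι → T)} {i : ι} (hfull : ∀ t, ∃ x ∈ D, x i = t) (M : Subgroup (ι → T))
    (hM : ∀ d ∈ D, ∀ x ∈ M, d * x * d⁻¹ ∈ M) {x : ι → T} (hx : x ∈ M) (hi : x i ≠ 1) (t : T) :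
    ∃ y ∈ M, y i = t := by
  let K := M.map (Pi.evalMonoidHom (fun _ : ι => T) i)
  have hK : K.Normal := ⟨by
    rintro _ ⟨a, ha, rfl⟩ g
    obtain ⟨d, hd, rfl⟩ := hfull g
    exact ⟨d * a * d⁻¹, hM d hd a ha, by simp⟩⟩
  rcases IsSimpleGroup.eq_bot_or_eq_top_of_normal K hK with e | e
  · exact absurd (Subgroup.mem_bot.1 (e ▸ (⟨x, hx, rfl⟩ : x i ∈ K))) hi
  · obtain ⟨y, hy, hyt⟩ := (e ▸ Subgroup.mem_top t : t ∈ K)
    exact ⟨y, hy, hyt⟩

theorem linked_symm {D : Subgroup (ι → T)} (hfull : ∀ i t, ∃ x ∈ D, x i = t) {i j : ι}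
    (h : Linked D i j) : Linked D j i := by
  intro d hd hdj
  by_contra hdi
  let M : Subgroup (ι → T) := D ⊓ (Pi.evalMonoidHom (fun _ : ι => T) j).ker
  have hM : ∀ d ∈ D, ∀ x ∈ M, d * x * d⁻¹ ∈ M := by
    intro g hg x hx
    refine ⟨D.mul_mem (D.mul_mem hg hx.1) (D.inv_mem hg), ?_⟩
    have : x j = 1 := hx.2
    show g j * x j * (g j)⁻¹ = 1
    simp [this]
  obtain ⟨t0, ht0⟩ : ∃ t : T, t ≠ 1 := exists_ne 1
  obtain ⟨y, hy, hyt⟩ := hfull j t0
  obtain ⟨x, hx, hxi⟩ := image_full (hfull i) M hM (x := d) ⟨hd, hdj⟩ hdi (y i)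
  have h1 := h (y * x⁻¹) (D.mul_mem hy (D.inv_mem hx.1)) (by simp [hxi])
  have h2 : x j = 1 := hx.2
  simp [h2, hyt] at h1
  exact ht0 h1

theorem separate (hna : ¬ ∀ a b : T, a * b = b * a) {D : Subgroup (ι → T)}
    (hfull : ∀ i t, ∃ x ∈ D, x i = t) (c : ι) (S : Finset ι) (hS : ∀ j ∈ S, ¬ Linked D j c) (t : T) :
    ∃ x ∈ D, x c = t ∧ ∀ j ∈ S, x j = 1 := by
  induction S using Finset.induction_on generalizing t with
  | empty =>
    obtain ⟨x, hx, hxt⟩ := hfull c t
    exact ⟨x, hx, hxt, by simp⟩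
  | insert a S ha ih =>
    have ih' := fun t => ih (fun j hj => hS j (Finset.mem_insert_of_mem hj)) t
    have hac := hS a (Finset.mem_insert_self a S)
    simp only [Linked, not_forall] at hac
    obtain ⟨x, hx, hxa, hxc⟩ := hac
    obtain ⟨b, hb⟩ : ∃ b : T, x c * b ≠ b * x c := by
      by_contra hc
      push Not at hc
      exact hxc (eq_one_of_central hna hc)
    obtain ⟨y, hy, hyc, hyS⟩ := ih' b
    let M : Subgroup (ι → T) := D ⊓ Subgroup.pi (insert a S : Finset ι) (fun _ => ⊥)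
    have hmem : ∀ z, z ∈ M ↔ z ∈ D ∧ ∀ j ∈ insert a S, z j = 1 := fun z => by
      simp only [M, Subgroup.mem_inf, Subgroup.mem_pi, Finset.mem_coe, Subgroup.mem_bot]
    have hM : ∀ d ∈ D, ∀ z ∈ M, d * z * d⁻¹ ∈ M := fun d hd z hz => by
      rw [hmem] at hz ⊢
      exact ⟨D.mul_mem (D.mul_mem hd hz.1) (D.inv_mem hd), fun j hj => by simp [hz.2 j hj]⟩
    have hz : x * y * x⁻¹ * y⁻¹ ∈ M := by
      rw [hmem]
      refine ⟨D.mul_mem (D.mul_mem (D.mul_mem hx hy) (D.inv_mem hx)) (D.inv_mem hy), fun j hj => ?_⟩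
      rcases Finset.mem_insert.1 hj with rfl | hj
      · simp [hxa]
      · simp [hyS j hj]
    have hzc : (x * y * x⁻¹ * y⁻¹) c ≠ 1 := fun e => by
      simp only [Pi.mul_apply, Pi.inv_apply, hyc, mul_inv_eq_iff_eq_mul, one_mul] at e
      exact hb e
    obtain ⟨z, hzM, hzt⟩ := image_full (hfull c) M hM hz hzc t
    rw [hmem] at hzM
    exact ⟨z, hzM.1, hzt, hzM.2⟩

theorem coord_iso [Finite T] {D : Subgroup (ι → T)} (hfull : ∀ i t, ∃ x ∈ D, x i = t) {i j : ι}
    (h : Linked D i j) : ∃ β : T ≃* T, ∀ x ∈ D, x j = β (x i) := by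
  choose d hd hdi using hfull i
  have key : ∀ x ∈ D, x j = d (x i) j := fun x hx => by
    have := h (x * (d (x i))⁻¹) (D.mul_mem hx (D.inv_mem (hd _))) (by simp [hdi])
    simpa [mul_inv_eq_one] using this
  let γ : T →* T := MonoidHom.mk' (fun t => d t j) fun a b => by
    have := key _ (D.mul_mem (hd a) (hd b))
    rw [Pi.mul_apply, Pi.mul_apply, hdi, hdi] at this
    exact this.symm
  have hinj : Function.Injective γ := by
    refine (injective_iff_map_eq_one γ).2 fun t ht => ?_
    have := linked_symm hfull h (d t) (hd t) ht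
    rwa [hdi] at this
  exact ⟨MulEquiv.ofBijective γ (Finite.injective_iff_bijective.1 hinj), key⟩

/-- The dichotomy for subgroups maximal among the invariant ones. -/
theorem box_or_diagonal [Finite T] (hna : ¬ ∀ a b : T, a * b = b * a) (D : Subgroup (ι → T)) (hD : D ≠ ⊤)
    (A : Set ((ι → T) ≃* (ι → T))) (hA : ∀ f ∈ A, ∀ x, x ∈ D ↔ f x ∈ D)
    (htr : ∀ i j : ι, ∃ f ∈ A, ∃ β : T ≃* T, ∀ x, f x j = β (x i))
    (hmax : ∀ P : Subgroup (ι → T), D ≤ P → (∀ f ∈ A, ∀ x ∈ P, f x ∈ P) → P = D ∨ P = ⊤) :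
    (∃ K : ι → Subgroup T, (∀ i, K i ≠ ⊤) ∧ ∀ x, x ∈ D ↔ ∀ i, x i ∈ K i) ∨
    ∃ (k : ℕ) (c : ι → ι) (e : (ι → T) ≃* (ι → T)), 2 ≤ k ∧
      (∀ j : ι, Nat.card {i : ι // c i = j} = k ∨ Nat.card {i : ι // c i = j} = 0) ∧
      ∀ x, x ∈ D ↔ ∀ i j : ι, c i = c j → e x i = e x j := by
  classical
  let K : ι → Subgroup T := fun i => D.map (Pi.evalMonoidHom (fun _ : ι => T) i)
  have hmove : ∀ i j, K j = ⊤ → K i = ⊤ := by
    intro i j hj
    obtain ⟨f, hf, β, hβ⟩ := htr i j
    refine eq_top_iff.2 fun t _ => ?_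
    obtain ⟨d, hd, hdt⟩ := (hj ▸ Subgroup.mem_top (β t) : β t ∈ K j)
    refine ⟨f.symm d, ?_, β.injective ?_⟩
    · exact (hA f hf _).2 (by simpa using hd)
    · exact ((hβ (f.symm d)).symm.trans (by simp)).trans hdt
  by_cases hbox : ∃ i, K i ≠ ⊤
  · obtain ⟨i0, hi0⟩ := hbox
    refine Or.inl ⟨K, fun i hi => hi0 (hmove i0 i hi), ?_⟩
    let P : Subgroup (ι → T) := Subgroup.pi Set.univ K
    have hmem : ∀ x, x ∈ P ↔ ∀ i, x i ∈ K i := fun x => by simp [P, Subgroup.mem_pi]
    have hDP : D ≤ P := fun x hx => (hmem x).2 fun i => ⟨x, hx, rfl⟩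
    rcases hmax P hDP (fun f hf x hx => (hmem _).2 fun j => by
      obtain ⟨i, β, hβ, -⟩ := factor_back hna f j
      obtain ⟨d, hd, hdi⟩ := (hmem x).1 hx i
      refine ⟨f d, (hA f hf d).1 hd, ?_⟩
      show f d j = f x j
      rw [hβ, hβ]
      exact congrArg β hdi) with e | e
    · exact fun x => e ▸ hmem x
    · exfalso
      refine hi0 (eq_top_iff.2 fun t _ => ?_)
      have := (hmem (Function.const ι t)).1 (e ▸ Subgroup.mem_top _) i0
      simpa using this
  · push Not at hbox
    have hfull : ∀ i t, ∃ x ∈ D, x i = t := fun i t => by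
      obtain ⟨x, hx, hxt⟩ := (hbox i ▸ Subgroup.mem_top t : t ∈ K i)
      exact ⟨x, hx, hxt⟩
    right
    let s : Setoid ι := ⟨Linked D, ⟨fun i x _ h => h, linked_symm hfull, fun h1 h2 x hx h => h2 x hx (h1 x hx h)⟩⟩
    let c : ι → ι := fun i => (Quotient.mk s i).out
    have hc : ∀ i, Linked D (c i) i := fun i => Quotient.exact (Quotient.out_eq (Quotient.mk s i))
    have hcc : ∀ i j, Linked D i j → c i = c j := fun i j h => congrArg Quotient.out (Quotient.sound (s := s) h)
    have hcc' : ∀ i, c (c i) = c i := fun i => hcc _ _ (hc i)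
    choose β hβ using fun i => coord_iso hfull (hc i)
    have hrep : ∀ i t, β (c i) t = t := by
      intro i t
      obtain ⟨x, hx, hxt⟩ := hfull (c i) t
      have := hβ (c i) x hx
      rw [hcc', hxt] at this
      exact this.symm
    have hchar : ∀ x : ι → T, x ∈ D ↔ ∀ i, x i = β i (x (c i)) := by
      intro x
      refine ⟨fun hx i => hβ i x hx, fun hx => ?_⟩
      let R : Finset ι := Finset.univ.image c
      have key : ∀ S : Finset ι, S ⊆ R →
          ∃ d ∈ D, (∀ j ∈ S, d j = x j) ∧ ∀ j ∈ R, j ∉ S → d j = 1 := by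
        intro S
        induction S using Finset.induction_on with
        | empty => exact fun _ => ⟨1, D.one_mem, by simp, by simp⟩
        | insert a S ha ih =>
          intro hsub
          obtain ⟨d, hd, h1, h2⟩ := ih ((Finset.subset_insert a S).trans hsub)
          have haR : a ∈ R := hsub (Finset.mem_insert_self a S)
          obtain ⟨y, hy, hya, hyo⟩ := separate hna hfull a (R.erase a) (fun j hj hl => by
            obtain ⟨hne, hjR⟩ := Finset.mem_erase.1 hj
            obtain ⟨i, -, rfl⟩ := Finset.mem_image.1 hjR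
            obtain ⟨i', -, rfl⟩ := Finset.mem_image.1 haR
            exact hne (by rw [← hcc' i, ← hcc' i']; exact hcc _ _ hl)) (x a)
          refine ⟨d * y, D.mul_mem hd hy, fun j hj => ?_, fun j hjR hj => ?_⟩
          · rcases Finset.mem_insert.1 hj with rfl | hj'
            · rw [Pi.mul_apply, h2 j haR ha, hya, one_mul]
            · have hne : j ≠ a := fun e => ha (e ▸ hj')
              rw [Pi.mul_apply, h1 j hj', hyo j (Finset.mem_erase.2
                ⟨hne, hsub (Finset.mem_insert_of_mem hj')⟩), mul_one]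
          · rw [Finset.mem_insert, not_or] at hj
            rw [Pi.mul_apply, h2 j hjR hj.2, hyo j (Finset.mem_erase.2 ⟨hj.1, hjR⟩), mul_one]
      obtain ⟨d, hd, h1, -⟩ := key R subset_rfl
      have : d = x := funext fun i => by
        rw [hβ i d hd, h1 (c i) (Finset.mem_image_of_mem c (Finset.mem_univ i)), ← hx i]
      exact this ▸ hd
    let e : (ι → T) ≃* (ι → T) := MulEquiv.piCongrRight fun i => (β i).symm
    have he : ∀ x i, e x i = (β i).symm (x i) := fun x i => rfl
    have hfin : ∀ x, x ∈ D ↔ ∀ i j : ι, c i = c j → e x i = e x j := by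
      intro x
      rw [hchar]
      constructor
      · intro h i j hij
        rw [he, he, h i, h j, MulEquiv.symm_apply_apply, MulEquiv.symm_apply_apply, hij]
      · intro h i
        have h1 := h i (c i) (hcc' i).symm
        rw [he, he] at h1
        have h2 : (β (c i)).symm (x (c i)) = x (c i) := by
          rw [MulEquiv.symm_apply_eq, hrep]
        rw [h2] at h1
        rw [← h1, MulEquiv.apply_symm_apply]
    have hiff : ∀ i i', c i = i' → ∀ l, c l = i' ↔ Linked D l i' := by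
      intro i i' hi l
      subst hi
      exact ⟨fun h => h ▸ linked_symm hfull (hc l), fun h => (hcc _ _ h).trans (hcc' i)⟩
    -- all the classes have the same size
    have hsize : ∀ i i', Nat.card {l // c l = c i} = Nat.card {l // c l = c i'} := by
      intro i i'
      obtain ⟨f, hf, γ, hγ⟩ := htr (c i) (c i')
      choose σ δ hσ hσs using factor hna f
      have hσinj : Function.Injective σ := by
        intro u v huv
        by_contra hne
        obtain ⟨t0, ht0⟩ : ∃ t : T, t ≠ 1 := exists_ne 1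
        have h1 := hσ u (Pi.mulSingle v t0)
        rw [huv, hσ v, Pi.mulSingle_eq_same, Pi.mulSingle_eq_of_ne hne, map_one] at h1
        exact ht0 ((δ v).map_eq_one_iff.1 h1)
      have hlink : ∀ u v, Linked D u v ↔ Linked D (σ u) (σ v) := by
        intro u v
        constructor
        · intro h x hx hxu
          have hx' : f.symm x ∈ D := (hA f hf _).2 (by simpa using hx)
          have h1 := hσ u (f.symm x)
          have h2 := hσ v (f.symm x)
          rw [MulEquiv.apply_symm_apply] at h1 h2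
          rw [h2, h _ hx' ((δ u).map_eq_one_iff.1 (h1 ▸ hxu)), map_one]
        · intro h x hx hxu
          have := h (f x) ((hA f hf x).1 hx) (by rw [hσ, hxu, map_one])
          rw [hσ] at this
          exact (δ v).map_eq_one_iff.1 this
      have hσc : σ (c i) = c i' := by
        by_contra hne
        obtain ⟨t0, ht0⟩ : ∃ t : T, t ≠ 1 := exists_ne 1
        have h1 := hγ (Pi.mulSingle (c i) t0)
        rw [hσs, Pi.mulSingle_eq_of_ne (Ne.symm hne), Pi.mulSingle_eq_same] at h1
        exact ht0 (γ.map_eq_one_iff.1 h1.symm)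
      refine Nat.card_congr ((Equiv.ofBijective σ (Finite.injective_iff_bijective.1 hσinj)).subtypeEquiv
        fun l => ?_)
      rw [hiff i _ rfl, hiff i' _ rfl]
      show Linked D l (c i) ↔ Linked D (σ l) (c i')
      rw [hlink, hσc]
    obtain ⟨i0⟩ : Nonempty ι := by
      by_contra hne
      rw [not_nonempty_iff] at hne
      exact hD (eq_top_iff.2 fun x _ => (Subsingleton.elim (1 : ι → T) x) ▸ D.one_mem)
    refine ⟨Nat.card {l // c l = c i0}, c, e, ?_, fun j => ?_, hfin⟩
    · by_contra hk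
      refine hD (eq_top_iff.2 fun x _ => (hfin x).2 fun i j hij => ?_)
      haveI : Subsingleton {l // c l = c i} := by
        have : Nat.card {l // c l = c i} ≤ 1 := by rw [hsize i i0]; omega
        exact Finite.card_le_one_iff_subsingleton.1 this
      have hh : i = j :=
        congrArg Subtype.val (Subsingleton.elim (⟨i, rfl⟩ : {l // c l = c i}) ⟨j, hij.symm⟩)
      rw [hh]
    · by_cases hj : ∃ i, c i = j
      · obtain ⟨i, rfl⟩ := hj
        exact Or.inl (hsize i i0)
      · push Not at hj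
        haveI : IsEmpty {i : ι // c i = j} := ⟨fun l => hj l.1 l.2⟩
        exact Or.inr Nat.card_of_isEmpty

end Sub

end Cfsg.Lib.Recog.ONanScott
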